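import Mathlib
import Groth.Agent.FlatCrit.Basic

/-!
# Flatness of a module over a ring modulo a regular sequence (Hironaka's lemma)
-/

universe u

open RingTheory.Sequence Function Pointwise
open scoped TensorProduct

namespace Groth.Agent.NormFlat

open Groth.Agent.FlatCrit

variable {B : Type u} [CommRing B] {N : Type u} [AddCommGroup N] [Module B N]

lemma lTensor_smulId_injective_iff (I : Ideal B) (r : B) :
    Injective ((r • LinearMap.id : (B ⧸ I) →ₗ[B] B ⧸ I).lTensor N) ↔
      IsSMulRegular (N ⧸ (I • ⊤ : Submodule B N)) r := by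
  rw [LinearMap.lTensor_smul, LinearMap.lTensor_id]
  exact ((TensorProduct.tensorQuotEquivQuotSMul N I).isSMulRegular_congr r)

/-- If `rs` is regular on `N` then `Tor₁(N, B/(rs)) = 0`. -/
lemma torZero_ofList (rs : List B) (hN : IsWeaklyRegular N rs) : TorZero B N (B ⧸ Ideal.ofList rs) := by
  induction rs using List.reverseRecOn with
  | nil =>
    rw [torZero_quotient_iff, Ideal.ofList_nil]
    intro x y _
    have : Subsingleton (N ⊗[B] (⊥ : Ideal B)) := inferInstance
    exact Subsingleton.elim x y
  | append_singleton ps r ih =>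
    rw [isWeaklyRegular_append_iff, isWeaklyRegular_singleton_iff] at hN
    let g : (B ⧸ Ideal.ofList ps) →ₗ[B] B ⧸ Ideal.ofList (ps ++ [r]) :=
      Submodule.mapQ _ _ LinearMap.id (by rw [Ideal.ofList_append]; exact le_sup_left)
    have hg : Surjective g := by
      intro y
      obtain ⟨b, rfl⟩ := Submodule.mkQ_surjective _ y
      exact ⟨Submodule.Quotient.mk b, rfl⟩
    refine (ih hN.1).of_presentation (f := r • LinearMap.id) (g := g) ?_ hg
      ((lTensor_smulId_injective_iff _ r).mpr hN.2)
    intro y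
    obtain ⟨b, rfl⟩ := Submodule.mkQ_surjective _ y
    change Submodule.Quotient.mk b = 0 ↔ _
    rw [Submodule.Quotient.mk_eq_zero, Ideal.ofList_append, Ideal.ofList_singleton, Submodule.mem_sup]
    constructor
    · rintro ⟨p, hp, q, hq, rfl⟩
      obtain ⟨c, rfl⟩ := Ideal.mem_span_singleton'.mp hq
      refine ⟨Submodule.Quotient.mk c, ?_⟩
      change r • Submodule.Quotient.mk (p := Ideal.ofList ps) c = Submodule.Quotient.mk (p + c * r)
      rw [← Submodule.Quotient.mk_smul, Submodule.Quotient.eq]
      have : r • c - (p + c * r) = -p := by rw [smul_eq_mul]; ring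
      rw [this]
      exact neg_mem hp
    · rintro ⟨y, hy⟩
      obtain ⟨c, rfl⟩ := Submodule.mkQ_surjective _ y
      have h : r • c - b ∈ Ideal.ofList ps := (Submodule.Quotient.eq _).mp hy
      exact ⟨_, neg_mem h, c * r, Ideal.mem_span_singleton'.mpr ⟨c, rfl⟩, by rw [smul_eq_mul]; ring⟩

/-- A regular sequence on `B` is regular on a flat module. -/
lemma isWeaklyRegular_of_flat [Module.Flat B N] (rs : List B) (hB : IsWeaklyRegular B rs) :
    IsWeaklyRegular N rs := by
  induction rs using List.reverseRecOn with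
  | nil => exact IsWeaklyRegular.nil B N
  | append_singleton ps r ih =>
    rw [isWeaklyRegular_append_iff, isWeaklyRegular_singleton_iff] at hB ⊢
    refine ⟨ih hB.1, (lTensor_smulId_injective_iff _ r).mp
      (Module.Flat.lTensor_preserves_injective_linearMap _ ?_)⟩
    have h : IsSMulRegular (B ⧸ Ideal.ofList ps) r := by
      have e : (B ⧸ (Ideal.ofList ps • (⊤ : Submodule B B))) ≃ₗ[B] (B ⧸ Ideal.ofList ps) :=
        Submodule.quotEquivOfEq _ _ (by rw [smul_eq_mul, Ideal.mul_top])
      exact (e.isSMulRegular_congr r).mp hB.2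
    exact h

lemma compatibleSMul_of_surjective (A : Type u) [CommRing A] [Algebra A B] (hAB : Surjective (algebraMap A B))
    (C : Type u) [AddCommGroup C] [Module A C] [Module B C] [IsScalarTower A B C]
    [Module A N] [IsScalarTower A B N] : TensorProduct.CompatibleSMul A B C N where
  smul_tmul b c y := by
    obtain ⟨a, rfl⟩ := hAB b
    rw [algebraMap_smul, algebraMap_smul, TensorProduct.smul_tmul]

variable [IsNoetherianRing B] [Module.Finite B N]

/-- Hironaka: a finite module is flat iff it is flat modulo a regular sequence of the radical which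
is regular on the module. -/
theorem flat_iff_regular (C : Type u) [CommRing C] [Algebra B C] (hC : Surjective (algebraMap B C))
    (rs : List B) (hker : RingHom.ker (algebraMap B C) = Ideal.ofList rs)
    (hjac : ∀ r ∈ rs, r ∈ (⊥ : Ideal B).jacobson) (hB : IsWeaklyRegular B rs) :
    Module.Flat B N ↔ Module.Flat C (C ⊗[B] N) ∧ IsWeaklyRegular N rs := by
  refine ⟨fun _ => ⟨inferInstance, isWeaklyRegular_of_flat rs hB⟩, fun ⟨hflat, hreg⟩ => ?_⟩
  let J := Ideal.ofList rs
  let ψ : (C →ₐ[B] B ⧸ J) := by
    exact ((Ideal.quotientEquivAlgOfEq B hker).toAlgHom).comp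
      (Ideal.quotientKerAlgEquivOfSurjective (f := Algebra.ofId B C) hC).symm.toAlgHom
  let : Algebra C (B ⧸ J) := ψ.toRingHom.toAlgebra
  have : IsScalarTower B C (B ⧸ J) := IsScalarTower.of_algebraMap_eq fun b => (ψ.commutes b).symm
  have hsur : Surjective (algebraMap C (B ⧸ J)) := fun y => by
    obtain ⟨b, rfl⟩ := Ideal.Quotient.mk_surjective y
    exact ⟨algebraMap B C b, ψ.commutes b⟩
  have : Module.Flat (B ⧸ J) ((B ⧸ J) ⊗[B] N) :=
    Module.Flat.of_linearEquiv (TensorProduct.AlgebraTensorModule.cancelBaseChange B C (B ⧸ J) (B ⧸ J) N).symm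
  refine flat_of_le_jacobson (R := B) (S := B) (I := J) ?_
    ((torZero_quotient_iff J).mp (torZero_ofList rs hreg))
  rw [Algebra.algebraMap_self, Ideal.map_id]
  exact Ideal.span_le.mpr hjac

/-- The same, relative to `A` surjecting onto `B`. -/
theorem flat_iff_regular_of_surjective (A : Type u) [CommRing A] [Algebra A B]
    (hAB : Surjective (algebraMap A B)) [Module A N] [IsScalarTower A B N]
    (C : Type u) [CommRing C] [Algebra A C] [Algebra B C] [IsScalarTower A B C]
    (hC : Surjective (algebraMap A C)) (as : List A)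
    (hker : RingHom.ker (algebraMap B C) = (Ideal.ofList as).map (algebraMap A B))
    (hjac : ∀ a ∈ as, algebraMap A B a ∈ (⊥ : Ideal B).jacobson) (hB : IsWeaklyRegular B as)
    (Q : Type u) [AddCommGroup Q] [Module A Q] [Module C Q] [IsScalarTower A C Q]
    (e : (C ⊗[A] N) ≃ₗ[A] Q) :
    Module.Flat B N ↔ Module.Flat C Q ∧ IsWeaklyRegular N as := by
  rw [flat_iff_regular C (fun c => let ⟨a, ha⟩ := hC c; ⟨algebraMap A B a, by rw [← ha, ← IsScalarTower.algebraMap_apply]⟩)
    (as.map (algebraMap A B)) (by rw [hker, Ideal.map_ofList])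
    (fun r hr => by obtain ⟨a, ha, rfl⟩ := List.mem_map.mp hr; exact hjac a ha)
    ((isWeaklyRegular_map_algebraMap_iff B B as).mpr hB), isWeaklyRegular_map_algebraMap_iff B N as]
  have := compatibleSMul_of_surjective (N := N) A hAB C
  let e₁ : (C ⊗[B] N) ≃ₗ[A] Q := (TensorProduct.equivOfCompatibleSMul A B A C N) ≪≫ₗ e
  let e₂ : (C ⊗[B] N) ≃ₗ[C] Q := e₁.extendScalarsOfSurjective hC
  exact and_congr ⟨fun _ => Module.Flat.of_linearEquiv e₂.symm, fun _ => Module.Flat.of_linearEquiv e₂⟩ Iff.rfl

end Groth.Agent.NormFlat
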