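import Mathlib
import Groth.Agent.NormFlat.RegularFlat
import Groth.Agent.CAlgH.FlatSeparated

/-!
# Flatness of localised quotients: helper lemmas for normal flatness
-/

universe u

open Function Pointwise
open scoped TensorProduct

namespace Groth.Agent.NormFlat

variable {A : Type u} [CommRing A] (J : Ideal A) (L : Type u) [CommRing L] [Algebra A L]

/-- Flatness over `A ⧸ J` of the reduction mod `J` of `X ⊗ L`. -/
abbrev PFlat (X : Type u) [AddCommGroup X] [Module A X] : Prop :=
  Module.Flat (A ⧸ J) ((A ⧸ J) ⊗[A] (X ⊗[A] L))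

variable {X Y Z : Type u} [AddCommGroup X] [Module A X] [AddCommGroup Y] [Module A Y]
  [AddCommGroup Z] [Module A Z]

lemma bijective_mk_of_killed (hX : ∀ r ∈ J, ∀ x : X, r • x = 0) :
    Bijective (TensorProduct.mk A (A ⧸ J) X 1) := by
  have h : J • (⊤ : Submodule A X) = ⊥ :=
    eq_bot_iff.mpr (Submodule.smul_le.mpr fun r hr x _ => (Submodule.mem_bot A).mpr (hX r hr x))
  let e := (TensorProduct.quotTensorEquivQuotSMul X J) ≪≫ₗ Submodule.quotEquivOfEqBot _ h
  have hc : ∀ x, e (TensorProduct.mk A (A ⧸ J) X 1 x) = x := fun x => by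
    simp only [e, TensorProduct.mk_apply, LinearEquiv.trans_apply]
    rw [← map_one (Ideal.Quotient.mk J), TensorProduct.quotTensorEquivQuotSMul_mk_tmul, one_smul,
      Submodule.quotEquivOfEqBot_apply_mk]
  exact ⟨fun x y h => by rw [← hc x, h, hc y], fun z => ⟨e z, e.injective (hc _)⟩⟩

lemma killed_rTensor (hX : ∀ r ∈ J, ∀ x : X, r • x = 0) : ∀ r ∈ J, ∀ x : X ⊗[A] L, r • x = 0 := by
  intro r hr x
  induction x with
  | zero => simp
  | tmul x l => rw [TensorProduct.smul_tmul', hX r hr x, TensorProduct.zero_tmul]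
  | add x y hx hy => rw [smul_add, hx, hy, add_zero]

lemma pflat_iff [Module (A ⧸ J) X] [IsScalarTower A (A ⧸ J) X] :
    PFlat J L X ↔ Module.Flat (A ⧸ J) (X ⊗[A] L) := by
  have hX : ∀ r ∈ J, ∀ x : X, r • x = 0 := fun r hr x => by
    rw [← algebraMap_smul (A ⧸ J) r x, Ideal.Quotient.algebraMap_eq, Ideal.Quotient.eq_zero_iff_mem.mpr hr,
      zero_smul]
  exact Module.Flat.equiv_iff ((LinearEquiv.ofBijective _
    (bijective_mk_of_killed J (killed_rTensor J L hX))).symm.extendScalarsOfSurjective Ideal.Quotient.mk_surjective)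

lemma pflat_congr (e : X ≃ₗ[A] Y) : PFlat J L X ↔ PFlat J L Y :=
  Module.Flat.equiv_iff (TensorProduct.AlgebraTensorModule.congr (LinearEquiv.refl (A ⧸ J) (A ⧸ J)) (e.rTensor L))

lemma pflat_of_subsingleton [Subsingleton X] : PFlat J L X := by
  have : Subsingleton ((A ⧸ J) ⊗[A] (X ⊗[A] L)) := inferInstance
  infer_instance

variable (S : Submonoid A) [IsLocalization S L]

lemma tmul_eq_zero_of_smul_eq_zero {x : X} {s : A} (hs : s ∈ S) (h : s • x = 0) (l : L) :
    x ⊗ₜ[A] l = 0 := by
  have hl : l = s • (IsLocalization.mk' L (1 : A) ⟨s, hs⟩ * l) := by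
    rw [Algebra.smul_def, ← mul_assoc, IsLocalization.mk'_spec'_mk L 1 s, map_one, one_mul]
  rw [hl, ← TensorProduct.smul_tmul, h, TensorProduct.zero_tmul]

include S in
/-- A surjection whose kernel is, up to `S`, contained in `J X` induces an equivalence. -/
lemma pflat_iff_of_surjective (g : X →ₗ[A] Y) (hg : Surjective g)
    (hker : ∀ x, g x = 0 → ∃ s ∈ S, s • x ∈ J • (⊤ : Submodule A X)) :
    PFlat J L X ↔ PFlat J L Y := by
  let h := g.rTensor L
  have hsurj : Surjective (h.baseChange (A ⧸ J)) := by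
    rw [LinearMap.baseChange_eq_ltensor]
    exact LinearMap.lTensor_surjective _ (LinearMap.rTensor_surjective L hg)
  refine Module.Flat.equiv_iff (LinearEquiv.ofBijective (h.baseChange (A ⧸ J)) ⟨?_, hsurj⟩)
  rw [injective_iff_map_eq_zero]
  intro z hz
  rw [LinearMap.baseChange_eq_ltensor] at hz
  have hex : Exact ((LinearMap.ker g).subtype.rTensor L) h :=
    rTensor_exact L (LinearMap.exact_subtype_ker_map g) hg
  obtain ⟨w, rfl⟩ := (lTensor_exact (A ⧸ J) hex (LinearMap.rTensor_surjective L hg) z).mp hz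
  clear hz
  induction w with
  | zero => simp
  | add a b ha hb => rw [map_add, ha, hb, add_zero]
  | tmul c k =>
    induction k with
    | zero => simp
    | add a b ha hb => rw [TensorProduct.tmul_add, map_add, ha, hb, add_zero]
    | tmul k l =>
      obtain ⟨k, hk⟩ := k
      obtain ⟨s, hs, hsk⟩ := hker k (LinearMap.mem_ker.mp hk)
      change c ⊗ₜ[A] (k ⊗ₜ[A] l) = 0
      have hl : l = s • (IsLocalization.mk' L (1 : A) ⟨s, hs⟩ * l) := by
        rw [Algebra.smul_def, ← mul_assoc, IsLocalization.mk'_spec'_mk L 1 s, map_one, one_mul]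
      rw [hl, ← TensorProduct.smul_tmul]
      generalize IsLocalization.mk' L (1 : A) ⟨s, hs⟩ * l = l'
      refine Submodule.smul_induction_on hsk (fun r hr y _ => ?_) (fun a b ha hb => ?_)
      · rw [← TensorProduct.smul_tmul', TensorProduct.tmul_smul, TensorProduct.smul_tmul',
          show r • c = 0 by
            obtain ⟨a, rfl⟩ := Ideal.Quotient.mk_surjective c
            exact Ideal.Quotient.eq_zero_iff_mem.mpr (Ideal.mul_mem_right a J hr),
          TensorProduct.zero_tmul]
      · rw [TensorProduct.add_tmul, TensorProduct.tmul_add, ha, hb, add_zero]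

section Exact

variable {f : X →ₗ[A] Y} {g : Y →ₗ[A] Z}
  (hX : ∀ r ∈ J, ∀ x : X, r • x = 0) (hY : ∀ r ∈ J, ∀ x : Y, r • x = 0)
  (hf : Injective f) (he : Exact f g) (hg : Surjective g)

include hX hY hf he hg S in
lemma pflat_exact : Injective ((f.rTensor L).baseChange (A ⧸ J)) ∧
    Exact ((f.rTensor L).baseChange (A ⧸ J)) ((g.rTensor L).baseChange (A ⧸ J)) ∧
    Surjective ((g.rTensor L).baseChange (A ⧸ J)) := by
  have : Module.Flat A L := IsLocalization.flat L S
  rw [LinearMap.baseChange_eq_ltensor, LinearMap.baseChange_eq_ltensor]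
  refine ⟨?_, lTensor_exact _ (rTensor_exact L he hg) (LinearMap.rTensor_surjective L hg),
    LinearMap.lTensor_surjective _ (LinearMap.rTensor_surjective L hg)⟩
  have h1 := bijective_mk_of_killed J (killed_rTensor J L hX)
  have h2 := bijective_mk_of_killed J (killed_rTensor J L hY)
  intro a b hab
  obtain ⟨a, rfl⟩ := h1.2 a
  obtain ⟨b, rfl⟩ := h1.2 b
  simp only [TensorProduct.mk_apply, LinearMap.lTensor_tmul] at hab
  exact congrArg _ (Module.Flat.rTensor_preserves_injective_linearMap f hf (h2.1 hab))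

include hX hY hf he hg S in
lemma pflat_of_extension (h₁ : PFlat J L X) (h₃ : PFlat J L Z) : PFlat J L Y :=
  have ⟨a, b, c⟩ := pflat_exact J L S hX hY hf he hg
  CAlgH.FlatSeparated.flat_of_extension a b c

include hX hY hf he hg S in
lemma pflat_of_kernel (h₂ : PFlat J L Y) (h₃ : PFlat J L Z) : PFlat J L X := by
  obtain ⟨a, b, c⟩ := pflat_exact J L S hX hY hf he hg
  rw [PFlat, Module.Flat.iff_rTensor_injective']
  intro q
  refine Injective.of_comp (f := ((f.rTensor L).baseChange (A ⧸ J)).lTensor (A ⧸ J)) ?_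
  rw [← LinearMap.coe_comp, LinearMap.lTensor_comp_rTensor, ← LinearMap.rTensor_comp_lTensor, LinearMap.coe_comp]
  refine (Module.Flat.rTensor_preserves_injective_linearMap _ q.subtype_injective).comp ?_
  exact (FlatCrit.TorZero.of_flat (R := A ⧸ J) (M := q)).lTensor_injective a b c

end Exact

/-- Flatness over a ring surjecting to `A ⧸ J` gives `PFlat`. -/
lemma pflat_of_flat (B : Type u) [CommRing B] [Algebra A B] (hAB : Surjective (algebraMap A B))
    (hker : RingHom.ker (algebraMap A B) ≤ J) [Module B X] [IsScalarTower A B X]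
    [Module.Flat B (X ⊗[A] L)] : PFlat J L X := by
  let φ : B →+* A ⧸ J := RingHom.liftOfSurjective (algebraMap A B) hAB
    ⟨Ideal.Quotient.mk J, by rwa [Ideal.mk_ker]⟩
  let : Algebra B (A ⧸ J) := φ.toAlgebra
  have : IsScalarTower A B (A ⧸ J) := IsScalarTower.of_algebraMap_eq fun a =>
    (RingHom.liftOfRightInverse_comp_apply (algebraMap A B) _ (Function.rightInverse_surjInv hAB)
      ⟨Ideal.Quotient.mk J, by rwa [Ideal.mk_ker]⟩ a).symm
  have := compatibleSMul_of_surjective (N := X ⊗[A] L) A hAB (A ⧸ J)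
  let e : ((A ⧸ J) ⊗[B] (X ⊗[A] L)) ≃ₗ[A] ((A ⧸ J) ⊗[A] (X ⊗[A] L)) :=
    TensorProduct.equivOfCompatibleSMul A B A _ _
  exact Module.Flat.of_linearEquiv (e.extendScalarsOfSurjective Ideal.Quotient.mk_surjective).symm

lemma exists_smul_eq_zero_of_tmul_eq_zero {x : X} (h : x ⊗ₜ[A] (1 : L) = 0) : ∃ s ∈ S, s • x = 0 := by
  have : IsLocalizedModule S ((TensorProduct.comm A L X).toLinearMap ∘ₗ TensorProduct.mk A L X 1) :=
    IsLocalizedModule.of_linearEquiv S _ _
  obtain ⟨c, hc⟩ := IsLocalizedModule.exists_of_eq (S := S)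
    (f := (TensorProduct.comm A L X).toLinearMap ∘ₗ TensorProduct.mk A L X 1) (x₁ := x) (x₂ := 0)
    (by simpa using h)
  exact ⟨c, c.2, by simpa [Submonoid.smul_def] using hc⟩

/-- A regular element of `B` kills nothing, up to `S`, in a module flat at `S`. -/
lemma exists_smul_eq_zero_of_flat (B : Type u) [CommRing B] [Algebra A B] [Module B X]
    [IsScalarTower A B X] [Module.Flat B (X ⊗[A] L)] {a : A} (ha : IsSMulRegular B a) {x : X}
    (h : a • x = 0) : ∃ s ∈ S, s • x = 0 := by
  have hr : IsSMulRegular (X ⊗[A] L) a := by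
    have h1 := isWeaklyRegular_of_flat (N := X ⊗[A] L) [algebraMap A B a]
      ((RingTheory.Sequence.isWeaklyRegular_singleton_iff B _).mpr ((isSMulRegular_algebraMap_iff B).mpr ha))
    exact (isSMulRegular_algebraMap_iff B).mp
      ((RingTheory.Sequence.isWeaklyRegular_singleton_iff _ _).mp h1)
  refine exists_smul_eq_zero_of_tmul_eq_zero L S (hr ?_)
  simp only [TensorProduct.smul_tmul', h, TensorProduct.zero_tmul, smul_zero]

/-- An element of a flat `C`-module killed at all associated primes of `C` is zero. -/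
lemma eq_zero_of_forall_associatedPrimes [IsNoetherianRing A] (C : Type u) [CommRing C] [Algebra A C]
    [Module.Finite A C] [Module C Y] [IsScalarTower A C Y] [Module.Flat C Y] {y : Y}
    (h : ∀ P ∈ associatedPrimes A C, ∃ s ∉ P, s • y = 0) : y = 0 := by
  by_contra hy
  let 𝔞 : Ideal A := (⊥ : Submodule A Y).colon {y}
  have hsub : ¬ (𝔞 : Set A) ⊆ ⋃ P ∈ associatedPrimes A C, (P : Set A) := by
    intro hs
    obtain ⟨P, hP, hle⟩ := (𝔞.subset_union_prime_finite (associatedPrimes.finite A C) (f := id) 0 0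
      fun _ h _ _ => h.isPrime).mp (by simpa using hs)
    obtain ⟨s, hsP, hs0⟩ := h P hP
    exact hsP (hle (Submodule.mem_colon_singleton.mpr ((Submodule.mem_bot A).mpr hs0)))
  obtain ⟨c, hc, hcn⟩ := Set.not_subset.mp hsub
  have hcreg : IsSMulRegular C c := by
    refine IsSMulRegular.of_right_eq_zero_of_smul fun z hz => ?_
    by_contra hz0
    apply hcn
    rw [biUnion_associatedPrimes_eq_zero_divisors]
    exact ⟨z, hz0, hz⟩
  have h1 := isWeaklyRegular_of_flat (N := Y) [algebraMap A C c]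
    ((RingTheory.Sequence.isWeaklyRegular_singleton_iff C _).mpr ((isSMulRegular_algebraMap_iff C).mpr hcreg))
  have h2 : IsSMulRegular Y c := (isSMulRegular_algebraMap_iff C).mp
    ((RingTheory.Sequence.isWeaklyRegular_singleton_iff _ _).mp h1)
  exact hy (h2.right_eq_zero_of_smul ((Submodule.mem_bot A).mp (Submodule.mem_colon_singleton.mp hc)))

end Groth.Agent.NormFlat
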