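import Mathlib
import Groth.Agent.NormFlat.Local

/-!
# Transitivity of normal flatness along a regular element
-/

universe u

open Function Pointwise
open scoped TensorProduct

namespace Groth.Agent.NormFlat

variable {A : Type u} [CommRing A] {M : Type u} [AddCommGroup M] [Module A M]

/-- The graded piece `I^k M / I^(k+1) M`. -/
abbrev G (I : Ideal A) (M : Type u) [AddCommGroup M] [Module A M] (k : ℕ) : Type u :=
  ↥(I ^ k • (⊤ : Submodule A M)) ⧸ (I • (⊤ : Submodule A ↥(I ^ k • (⊤ : Submodule A M))))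

/-- Normal flatness, localised by `L`. -/
def NF (I : Ideal A) (L : Type u) [CommRing L] [Algebra A L] (M : Type u) [AddCommGroup M] [Module A M] : Prop :=
  ∀ k, Module.Flat (A ⧸ I) (G I M k ⊗[A] L)

/-- A subquotient. -/
abbrev Sq (V U : Submodule A M) : Type u := ↥V ⧸ U.comap V.subtype

lemma smul_top_eq_comap (I : Ideal A) (k : ℕ) :
    I • (⊤ : Submodule A ↥(I ^ k • (⊤ : Submodule A M))) =
      (I ^ (k + 1) • (⊤ : Submodule A M)).comap (I ^ k • (⊤ : Submodule A M)).subtype := by
  apply Submodule.map_injective_of_injective (I ^ k • (⊤ : Submodule A M)).subtype_injective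
  rw [Submodule.map_smul'', Submodule.map_subtype_top, Submodule.map_comap_subtype, ← Submodule.mul_smul,
    ← pow_succ', inf_eq_right.mpr (Submodule.smul_mono_left (Ideal.pow_le_pow_right k.le_succ))]

lemma G_mk_eq_zero {I : Ideal A} {k : ℕ} {x : ↥(I ^ k • (⊤ : Submodule A M))} :
    (Submodule.Quotient.mk x : G I M k) = 0 ↔ (x : M) ∈ I ^ (k + 1) • (⊤ : Submodule A M) := by
  rw [Submodule.Quotient.mk_eq_zero, smul_top_eq_comap]
  rfl

lemma G_killed (I : Ideal A) (k : ℕ) : ∀ r ∈ I, ∀ x : G I M k, r • x = 0 := by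
  intro r hr x
  obtain ⟨x, rfl⟩ := Submodule.mkQ_surjective _ x
  rw [← map_smul]
  exact (Submodule.Quotient.mk_eq_zero _).mpr (Submodule.smul_mem_smul hr trivial)

lemma sq_killed {J : Ideal A} {V U : Submodule A M} (h : J • V ≤ U) : ∀ r ∈ J, ∀ x : Sq V U, r • x = 0 := by
  intro r hr x
  obtain ⟨x, rfl⟩ := Submodule.mkQ_surjective _ x
  rw [← map_smul]
  exact (Submodule.Quotient.mk_eq_zero _).mpr (h (Submodule.smul_mem_smul hr x.2))

/-- Inclusion of subquotients. -/
noncomputable def sqMap {V V' : Submodule A M} (h : V' ≤ V) (U : Submodule A M) : Sq V' U →ₗ[A] Sq V U :=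
  Submodule.mapQ _ _ (Submodule.inclusion h) fun _ hx => hx

/-- Projection of subquotients. -/
noncomputable def sqProj (V : Submodule A M) {U U' : Submodule A M} (h : U ≤ U') : Sq V U →ₗ[A] Sq V U' :=
  Submodule.mapQ _ _ LinearMap.id fun _ hx => h hx

lemma sqMap_injective {V V' : Submodule A M} (h : V' ≤ V) (U : Submodule A M) : Injective (sqMap h U) := by
  rw [injective_iff_map_eq_zero]
  intro x hx
  obtain ⟨x, rfl⟩ := Submodule.mkQ_surjective _ x
  exact (Submodule.Quotient.mk_eq_zero _).mpr ((Submodule.Quotient.mk_eq_zero _).mp hx :)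

lemma sqProj_surjective (V : Submodule A M) {U U' : Submodule A M} (h : U ≤ U') : Surjective (sqProj V h) := by
  intro x
  obtain ⟨x, rfl⟩ := Submodule.mkQ_surjective _ x
  exact ⟨Submodule.Quotient.mk x, rfl⟩

lemma sq_exact {V V' U : Submodule A M} (h : V' ≤ V) (h' : U ≤ V') : Exact (sqMap h U) (sqProj V h') := by
  intro x
  obtain ⟨x, rfl⟩ := Submodule.mkQ_surjective _ x
  constructor
  · intro hx
    exact ⟨Submodule.Quotient.mk ⟨x, ((Submodule.Quotient.mk_eq_zero _).mp hx :)⟩, rfl⟩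
  · rintro ⟨y, hy⟩
    obtain ⟨y, rfl⟩ := Submodule.mkQ_surjective _ y
    have h0 : (x : M) - y ∈ U := by
      have h1 := (Submodule.Quotient.eq _).mp hy.symm
      exact h1
    exact (Submodule.Quotient.mk_eq_zero _).mpr (by
      have := add_mem (h' h0) y.2
      rwa [sub_add_cancel] at this)

section Step

variable (R : Ideal A) (a : A)

set_option quotPrecheck false in
local notation "J" => R ⊔ Ideal.span {a}

variable (M) in
/-- The chain `W m j = R^j J^(m-j) M + J^(m+1) M`. -/
def W (m j : ℕ) : Submodule A M :=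
  (R ^ j * J ^ (m - j)) • (⊤ : Submodule A M) ⊔ J ^ (m + 1) • (⊤ : Submodule A M)

lemma pow_succ_le (e : ℕ) : J ^ (e + 1) ≤ R * J ^ e ⊔ Ideal.span {a ^ (e + 1)} := by
  induction e with
  | zero => simp
  | succ e ih =>
    rw [pow_succ' (a := J) (n := e + 1)]
    rw [Ideal.sup_mul]
    refine sup_le le_sup_left ((Ideal.mul_mono_right ih).trans ?_)
    rw [Ideal.mul_sup]
    refine sup_le (le_sup_of_le_left ?_) ?_
    · rw [mul_left_comm]
      exact Ideal.mul_mono_right ((Ideal.mul_mono_left le_sup_right).trans (pow_succ' _ _).ge)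
    · rw [Ideal.span_singleton_mul_span_singleton, ← pow_succ']
      exact le_sup_right

lemma pow_le_split (m : ℕ) : ∀ j ≤ m + 1,
    J ^ (m + 1) ≤ R ^ j * J ^ (m + 1 - j) ⊔ Ideal.span {a ^ (m + 2 - j)} := by
  intro j hj
  induction j with
  | zero => simp
  | succ j ih =>
    refine (ih (by omega)).trans (sup_le ?_ (le_sup_of_le_right ?_))
    · obtain ⟨e, he⟩ : ∃ e, m + 1 - j = e + 1 := ⟨m - j, by omega⟩
      rw [he, show m + 1 - (j + 1) = e by omega, show m + 2 - (j + 1) = e + 1 by omega]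
      refine (Ideal.mul_mono_right (pow_succ_le R a e)).trans ?_
      rw [Ideal.mul_sup, ← mul_assoc, ← pow_succ]
      exact sup_le_sup le_rfl Ideal.mul_le_right
    · exact Ideal.span_singleton_le_span_singleton.mpr (pow_dvd_pow a (by omega))

lemma W_zero (m : ℕ) : W M R a m 0 = J ^ m • (⊤ : Submodule A M) := by
  rw [W, pow_zero, one_mul, Nat.sub_zero]
  exact sup_eq_left.mpr (Submodule.smul_mono_left (Ideal.pow_le_pow_right m.le_succ))

lemma W_last (m : ℕ) : W M R a m (m + 1) = J ^ (m + 1) • (⊤ : Submodule A M) := by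
  rw [W, Nat.sub_eq_zero_of_le (Nat.le_succ m), pow_zero, mul_one]
  exact sup_eq_right.mpr (Submodule.smul_mono_left (Ideal.pow_right_mono le_sup_left _))

lemma smul_W_zero_le (m i : ℕ) : J • W M R a m 0 ≤ W M R a m i := by
  rw [W_zero, ← Submodule.mul_smul, ← pow_succ']
  exact le_sup_right

lemma W_succ_le (m j : ℕ) (hj : j ≤ m) : W M R a m (j + 1) ≤ W M R a m j := by
  refine sup_le ?_ le_sup_right
  rcases hj.lt_or_eq with h | rfl
  · refine le_sup_of_le_left (Submodule.smul_mono_left ?_)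
    rw [pow_succ, mul_assoc, show m - j = (m - (j + 1)) + 1 by omega, pow_succ' (a := J)]
    exact Ideal.mul_mono_right (Ideal.mul_mono_left le_sup_left)
  · rw [Nat.sub_eq_zero_of_le (Nat.le_succ j), pow_zero, mul_one]
    exact le_sup_of_le_right (Submodule.smul_mono_left (Ideal.pow_right_mono le_sup_left _))

lemma W_le_zero (m : ℕ) : ∀ j ≤ m + 1, W M R a m j ≤ W M R a m 0 := by
  intro j hj
  induction j with
  | zero => rfl
  | succ j ih => exact (W_succ_le R a m j (by omega)).trans (ih (by omega))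

lemma smul_mem_W (m j : ℕ) {x : M} (hx : x ∈ R ^ j • (⊤ : Submodule A M)) :
    a ^ (m - j) • x ∈ W M R a m j := by
  refine Submodule.mem_sup_left ?_
  rw [mul_comm, Submodule.mul_smul]
  exact Submodule.smul_mem_smul (Ideal.pow_mem_pow (Ideal.mem_sup_right (Ideal.mem_span_singleton_self a)) _) hx

lemma W_le_sup (m j : ℕ) (hj : j ≤ m) :
    W M R a m j ≤ Ideal.span {a ^ (m - j)} • (R ^ j • (⊤ : Submodule A M)) ⊔ W M R a m (j + 1) := by
  refine sup_le ?_ (le_sup_of_le_right le_sup_right)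
  rcases hj.lt_or_eq with h | rfl
  · obtain ⟨e, he⟩ : ∃ e, m - j = e + 1 := ⟨m - j - 1, by omega⟩
    have hle : R ^ j * J ^ (e + 1) ≤ R ^ (j + 1) * J ^ e ⊔ Ideal.span {a ^ (e + 1)} * R ^ j := by
      refine (Ideal.mul_mono_right (pow_succ_le R a e)).trans ?_
      rw [Ideal.mul_sup, ← mul_assoc, ← pow_succ, mul_comm (R ^ j) (Ideal.span _)]
    rw [he]
    refine (Submodule.smul_mono_left hle).trans ?_
    rw [Submodule.sup_smul, Submodule.mul_smul (Ideal.span _)]
    refine sup_le (le_sup_of_le_right ?_) le_sup_left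
    rw [W, show m - (j + 1) = e by omega]
    exact le_sup_left
  · simp

variable {S : Submonoid A}

/-- `a` is regular, up to `S`, on `R^i M / R^(i+1) M`. -/
def RegAt (M : Type u) [AddCommGroup M] [Module A M] (S : Submonoid A) (i : ℕ) : Prop :=
  ∀ x ∈ R ^ i • (⊤ : Submodule A M), a • x ∈ R ^ (i + 1) • (⊤ : Submodule A M) →
    ∃ s ∈ S, s • x ∈ R ^ (i + 1) • (⊤ : Submodule A M)

lemma exists_smul_mem : ∀ i, (∀ i' < i, RegAt R a M S i') → ∀ (n : ℕ) (y : M),
    a ^ n • y ∈ R ^ i • (⊤ : Submodule A M) → ∃ s ∈ S, s • y ∈ R ^ i • (⊤ : Submodule A M) := by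
  intro i
  induction i with
  | zero => exact fun _ _ y _ => ⟨1, one_mem S, by simp⟩
  | succ i ih =>
    intro hreg n
    induction n with
    | zero => exact fun y hy => ⟨1, one_mem S, by simpa using hy⟩
    | succ n ihn =>
      intro y hy
      rw [pow_succ a, mul_smul] at hy
      obtain ⟨s, hs, hsy⟩ := ihn _ hy
      obtain ⟨t, ht, hty⟩ := ih (fun i' h => hreg i' (by omega)) 1 (s • y)
        (by rw [pow_one, smul_comm]; exact Submodule.smul_mono_left (Ideal.pow_le_pow_right i.le_succ) hsy)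
      obtain ⟨t', ht', h⟩ := hreg i (Nat.lt_succ_self i) _ hty
        (by rw [smul_comm a t, smul_comm a s]; exact Submodule.smul_mem _ _ hsy)
      refine ⟨t' * t * s, mul_mem (mul_mem ht' ht) hs, ?_⟩
      rwa [mul_smul, mul_smul]

lemma exists_of_smul_mem_W (m j : ℕ) (hj : j ≤ m) (hreg : ∀ i < j, RegAt R a M S i)
    (hreg' : j < m → RegAt R a M S j) {x : M} (hx : x ∈ R ^ j • (⊤ : Submodule A M))
    (h : a ^ (m - j) • x ∈ W M R a m (j + 1)) :
    ∃ s ∈ S, ∃ z ∈ R ^ j • (⊤ : Submodule A M), s • x - a • z ∈ R ^ (j + 1) • (⊤ : Submodule A M) := by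
  have hW : W M R a m (j + 1) ≤ R ^ (j + 1) • (⊤ : Submodule A M) ⊔
      Ideal.span {a ^ (m + 1 - j)} • (⊤ : Submodule A M) := by
    refine sup_le (le_sup_of_le_left (Submodule.smul_mono_left Ideal.mul_le_left)) ?_
    refine (Submodule.smul_mono_left (pow_le_split R a m (j + 1) (by omega))).trans ?_
    rw [Submodule.sup_smul, show m + 2 - (j + 1) = m + 1 - j by omega]
    exact sup_le_sup (Submodule.smul_mono_left Ideal.mul_le_left) le_rfl
  obtain ⟨r, hr, t, ht, hrt⟩ := Submodule.mem_sup.mp (hW h)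
  rw [Submodule.ideal_span_singleton_smul, Submodule.mem_smul_pointwise_iff_exists] at ht
  obtain ⟨z, -, rfl⟩ := ht
  obtain ⟨e, rfl⟩ := Nat.exists_eq_add_of_le hj
  rw [show j + e + 1 - j = e + 1 by omega, pow_succ, mul_smul] at hrt
  rw [show j + e - j = e by omega] at hrt
  have h1 : a ^ e • (x - a • z) ∈ R ^ (j + 1) • (⊤ : Submodule A M) := by
    rw [smul_sub, ← hrt, add_sub_cancel_right]; exact hr
  obtain ⟨s, hs, hsx⟩ : ∃ s ∈ S, s • (x - a • z) ∈ R ^ (j + 1) • (⊤ : Submodule A M) := by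
    cases e with
    | zero => exact ⟨1, one_mem S, by simpa using h1⟩
    | succ e => exact exists_smul_mem R a (j + 1) (fun i hi =>
        (Nat.lt_succ_iff.mp hi).lt_or_eq.elim (hreg i) (fun hij => hij ▸ hreg' (by omega))) _ _ h1
  obtain ⟨t, ht, htz⟩ := exists_smul_mem R a j hreg 1 (s • z) (by
    rw [pow_one, smul_comm]
    have := sub_mem (Submodule.smul_mem _ s hx)
      (Submodule.smul_mono_left (Ideal.pow_le_pow_right j.le_succ) hsx)
    rwa [← smul_sub, sub_sub_cancel] at this)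
  refine ⟨t * s, mul_mem ht hs, t • s • z, htz, ?_⟩
  have := Submodule.smul_mem (R ^ (j + 1) • (⊤ : Submodule A M)) t hsx
  rw [smul_sub, smul_sub] at this
  rwa [mul_smul, smul_comm a t, smul_comm a s]

variable (L : Type u) [CommRing L] [Algebra A L] [IsLocalization S L]

lemma pflat_piece (m j : ℕ) (hj : j ≤ m) (hreg : ∀ i < j, RegAt R a M S i)
    (hreg' : j < m → RegAt R a M S j) :
    PFlat J L (G R M j) ↔ PFlat J L (Sq (W M R a m j) (W M R a m (j + 1))) := by
  let φ : ↥(R ^ j • (⊤ : Submodule A M)) →ₗ[A] Sq (W M R a m j) (W M R a m (j + 1)) :=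
    Submodule.mkQ _ ∘ₗ LinearMap.codRestrict (W M R a m j)
      (a ^ (m - j) • (R ^ j • (⊤ : Submodule A M)).subtype) (fun x => smul_mem_W R a m j x.2)
  have hφ : ∀ x, φ x = 0 ↔ a ^ (m - j) • (x : M) ∈ W M R a m (j + 1) := fun x => Submodule.Quotient.mk_eq_zero _
  have hle : R • (⊤ : Submodule A ↥(R ^ j • (⊤ : Submodule A M))) ≤ LinearMap.ker φ := by
    intro x hx
    rw [smul_top_eq_comap, Submodule.mem_comap] at hx
    rw [LinearMap.mem_ker, hφ]
    refine Submodule.mem_sup_left ?_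
    rcases hj.lt_or_eq with h | rfl
    · rw [show m - j = (m - (j + 1)) + 1 by omega, pow_succ' a, mul_smul a (a ^ _), mul_comm (R ^ (j + 1)), Submodule.mul_smul]
      exact Submodule.smul_mem _ a (Submodule.smul_mem_smul
        (Ideal.pow_mem_pow (Ideal.mem_sup_right (Ideal.mem_span_singleton_self a)) _) hx)
    · simpa using hx
  let Φ : G R M j →ₗ[A] Sq (W M R a m j) (W M R a m (j + 1)) := Submodule.liftQ _ φ hle
  refine pflat_iff_of_surjective J L S Φ (fun y => ?_) (fun x hx => ?_)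
  · obtain ⟨⟨y, hy⟩, rfl⟩ := Submodule.mkQ_surjective _ y
    obtain ⟨u, hu, w, hw, rfl⟩ := Submodule.mem_sup.mp (W_le_sup R a m j hj hy)
    rw [Submodule.ideal_span_singleton_smul, Submodule.mem_smul_pointwise_iff_exists] at hu
    obtain ⟨v, hv, rfl⟩ := hu
    refine ⟨Submodule.Quotient.mk ⟨v, hv⟩, ?_⟩
    refine (Submodule.Quotient.eq _).mpr ?_
    change a ^ (m - j) • v - (a ^ (m - j) • v + w) ∈ W M R a m (j + 1)
    rw [sub_add_cancel_left]
    exact neg_mem hw
  · obtain ⟨x, rfl⟩ := Submodule.mkQ_surjective _ x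
    obtain ⟨s, hs, z, hz, hsz⟩ := exists_of_smul_mem_W R a m j hj hreg hreg' x.2 ((hφ x).mp hx)
    refine ⟨s, hs, ?_⟩
    have heq : s • (Submodule.Quotient.mk x : G R M j) = a • Submodule.Quotient.mk ⟨z, hz⟩ := by
      rw [← sub_eq_zero, ← Submodule.Quotient.mk_smul, ← Submodule.Quotient.mk_smul, ← Submodule.Quotient.mk_sub,
        G_mk_eq_zero]
      exact hsz
    rw [Submodule.mkQ_apply, heq]
    exact Submodule.smul_mem_smul (Ideal.mem_sup_right (Ideal.mem_span_singleton_self a)) trivial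

lemma pflat_chain (m : ℕ) : ∀ j ≤ m + 1, (∀ i < j, PFlat J L (G R M i)) →
    (∀ i < j, i < m → RegAt R a M S i) → PFlat J L (Sq (W M R a m 0) (W M R a m j)) := by
  intro j
  induction j with
  | zero =>
    intro _ _ _
    have : Subsingleton (Sq (W M R a m 0) (W M R a m 0)) :=
      Submodule.Quotient.subsingleton_iff.mpr (Submodule.comap_subtype_self _)
    exact pflat_of_subsingleton J L
  | succ j ih =>
    intro hj hG hreg
    have hW0 := W_le_zero (M := M) R a m
    refine pflat_of_extension J L S (X := Sq (W M R a m j) (W M R a m (j + 1)))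
      (Z := Sq (W M R a m 0) (W M R a m j)) (f := sqMap (hW0 j (by omega)) _) (g := sqProj _ (W_succ_le R a m j (by omega)))
      (sq_killed ((Submodule.smul_mono le_rfl (hW0 j (by omega))).trans (smul_W_zero_le R a m _)))
      (sq_killed (smul_W_zero_le R a m _)) (sqMap_injective _ _) (sq_exact _ _) (sqProj_surjective _ _)
      ((pflat_piece R a L m j (by omega) (fun i hi => hreg i (by omega) (by omega))
        (fun h => hreg j (by omega) h)).mp (hG j (by omega)))
      (ih (by omega) (fun i hi => hG i (by omega)) (fun i hi => hreg i (by omega)))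

lemma regAt_of_nf (hR : NF R L M) (ha : IsSMulRegular (A ⧸ R) a) (i : ℕ) : RegAt R a M S i := by
  intro x hx hax
  have := hR i
  obtain ⟨s, hs, h⟩ := exists_smul_eq_zero_of_flat L S (A ⧸ R) ha
    (x := (Submodule.Quotient.mk ⟨x, hx⟩ : G R M i))
    (by rw [← Submodule.Quotient.mk_smul, G_mk_eq_zero]; exact hax)
  rw [← Submodule.Quotient.mk_smul, G_mk_eq_zero] at h
  exact ⟨s, hs, h⟩

lemma pflat_G_of_nf (hR : NF R L M) (i : ℕ) : PFlat J L (G R M i) := by
  have := hR i
  refine pflat_of_flat J L (A ⧸ R) Ideal.Quotient.mk_surjective ?_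
  rw [Ideal.Quotient.algebraMap_eq, Ideal.mk_ker]
  exact le_sup_left

lemma pflat_G_iff (m : ℕ) :
    PFlat J L (G J M m) ↔ PFlat J L (Sq (W M R a m 0) (W M R a m (m + 1))) := by
  refine pflat_congr J L (Submodule.Quotient.equiv _ _ (LinearEquiv.ofEq _ _ (W_zero R a m).symm) ?_)
  ext ⟨x, hx⟩
  rw [smul_top_eq_comap, Submodule.mem_map]
  constructor
  · rintro ⟨y, hy, hyx⟩
    obtain rfl : (y : M) = x := congrArg Subtype.val hyx
    simpa [W_last] using hy
  · intro hy
    exact ⟨⟨x, (W_zero (M := M) R a m) ▸ hx⟩, by simpa [W_last] using hy, rfl⟩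

include S in
/-- Normal flatness passes from `R` to `R + (a)`. -/
theorem nf_sup_singleton (hR : NF R L M) (ha : IsSMulRegular (A ⧸ R) a) : NF J L M := fun m =>
  (pflat_iff J L).mp ((pflat_G_iff R a L m).mpr
    (pflat_chain R a L (S := S) m (m + 1) le_rfl (fun i _ => pflat_G_of_nf R a L hR i)
      (fun i _ _ => regAt_of_nf R a L hR ha i)))

include S in
lemma pflat_G_step (hJ : NF J L M) (k : ℕ) (hG : ∀ i < k, PFlat J L (G R M i))
    (hreg : ∀ i < k, RegAt R a M S i) : PFlat J L (G R M k) := by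
  have hW0 := W_le_zero (M := M) R a k
  refine (pflat_piece R a L k k le_rfl hreg (fun h => absurd h (lt_irrefl _))).mpr ?_
  exact pflat_of_kernel J L S (f := sqMap (hW0 k (by omega)) _) (g := sqProj _ (W_succ_le R a k k le_rfl))
    (sq_killed ((Submodule.smul_mono le_rfl (hW0 k (by omega))).trans (smul_W_zero_le R a k _)))
    (sq_killed (smul_W_zero_le R a k _)) (sqMap_injective _ _) (sq_exact _ _) (sqProj_surjective _ _)
    ((pflat_G_iff R a L k).mp ((pflat_iff J L).mpr (hJ k)))
    (pflat_chain R a L k k (by omega) hG (fun i hi _ => hreg i hi))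

end Step

/-- `X ⊗ A ≅ X`, as a flatness statement. -/
lemma flat_tensor_self_iff (C : Type u) [CommRing C] [Algebra A C] (X : Type u) [AddCommGroup X] [Module A X]
    [Module C X] [IsScalarTower A C X] : Module.Flat C (X ⊗[A] A) ↔ Module.Flat C X :=
  Module.Flat.equiv_iff (TensorProduct.AlgebraTensorModule.rid A C X)

lemma nf_self_iff (I : Ideal A) : NF I A M ↔ ∀ k, Module.Flat (A ⧸ I) (G I M k) :=
  forall_congr' fun _ => flat_tensor_self_iff _ _

lemma isLocalization_bot : IsLocalization (⊥ : Submonoid A) A :=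
  IsLocalization.self fun x hx => by rw [(Submonoid.mem_bot).mp hx]; exact one_mem _

/-- Converse: normal flatness along `R + (a)` plus normal flatness along `R` at the associated primes. -/
theorem nf_of_nf_sup_singleton [IsNoetherianRing A] [Module.Finite A M] (R : Ideal A) (a : A)
    (hjac : a ∈ (⊥ : Ideal A).jacobson) (ha : IsSMulRegular (A ⧸ R) a)
    (hJ : NF (R ⊔ Ideal.span {a}) A M)
    (hP : ∀ (P : Ideal A) [P.IsPrime], P ∈ associatedPrimes A (A ⧸ (R ⊔ Ideal.span {a})) →
      NF R (Localization.AtPrime P) M) : NF R A M := by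
  have := isLocalization_bot (A := A)
  set J := R ⊔ Ideal.span {a} with hJdef
  suffices key : ∀ k, PFlat J A (G R M k) ∧ RegAt R a M ⊥ k by
    rw [nf_self_iff]
    intro k
    obtain ⟨hflat, hreg⟩ := key k
    let φ : (A ⧸ R) →+* A ⧸ J := Ideal.Quotient.factor (le_sup_left : R ≤ J)
    let : Algebra (A ⧸ R) (A ⧸ J) := φ.toAlgebra
    have : IsScalarTower A (A ⧸ R) (A ⧸ J) := IsScalarTower.of_algebraMap_eq fun _ => rfl
    have : Module.Finite (A ⧸ R) (G R M k) := Module.Finite.of_restrictScalars_finite A _ _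
    refine (flat_iff_regular_of_surjective (B := A ⧸ R) A Ideal.Quotient.mk_surjective (A ⧸ J)
      Ideal.Quotient.mk_surjective [a] ?_ ?_ ((RingTheory.Sequence.isWeaklyRegular_singleton_iff _ _).mpr ha)
      _ (LinearEquiv.refl A _)).mpr ⟨?_, ?_⟩
    · change RingHom.ker φ = _
      rw [Ideal.Quotient.factor_ker, hJdef, Ideal.map_sup, Ideal.map_quotient_self, bot_sup_eq, Ideal.ofList_singleton]
      rfl
    · intro b hb
      obtain rfl := List.mem_singleton.mp hb
      change b ∈ Ideal.comap (Ideal.Quotient.mk R) (⊥ : Ideal (A ⧸ R)).jacobson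
      rw [Ideal.comap_jacobson_of_surjective Ideal.Quotient.mk_surjective, ← RingHom.ker_eq_comap_bot,
        Ideal.mk_ker]
      exact Ideal.jacobson_mono bot_le hjac
    · exact Module.Flat.of_linearEquiv (TensorProduct.AlgebraTensorModule.congr (LinearEquiv.refl (A ⧸ J) (A ⧸ J))
        (TensorProduct.rid A (G R M k))).symm
    · refine (RingTheory.Sequence.isWeaklyRegular_singleton_iff _ _).mpr
        (IsSMulRegular.of_right_eq_zero_of_smul fun x hx => ?_)
      obtain ⟨x, rfl⟩ := Submodule.mkQ_surjective _ x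
      rw [← map_smul] at hx
      obtain ⟨s, hs, h⟩ := hreg x x.2 (G_mk_eq_zero.mp hx)
      rw [Submonoid.mem_bot] at hs
      rw [hs, one_smul] at h
      exact G_mk_eq_zero.mpr h
  intro k
  induction k using Nat.strong_induction_on with
  | _ k ih =>
  have hflat := pflat_G_step R a A (S := (⊥ : Submonoid A)) hJ k (fun i hi => (ih i hi).1) (fun i hi => (ih i hi).2)
  refine ⟨hflat, ?_⟩
  let Gk := G R M k
  have : Module.Flat (A ⧸ J) ((A ⧸ J) ⊗[A] Gk) := Module.Flat.of_linearEquiv
    (TensorProduct.AlgebraTensorModule.congr (LinearEquiv.refl (A ⧸ J) (A ⧸ J)) (TensorProduct.rid A Gk)).symm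
  let Killed : Gk → Prop := fun x => ∀ P ∈ associatedPrimes A (A ⧸ J), ∃ s ∉ P, s • x = 0
  have hdiv : ∀ x, Killed x → ∃ x₁, Killed x₁ ∧ a • x₁ = x := by
    intro x hx
    have h0 : (1 : A ⧸ J) ⊗ₜ[A] x = 0 := eq_zero_of_forall_associatedPrimes (A := A) (A ⧸ J) fun P hP' => by
      obtain ⟨s, hs, hsx⟩ := hx P hP'
      exact ⟨s, hs, by rw [← TensorProduct.tmul_smul, hsx, TensorProduct.tmul_zero]⟩
    have h1 : x ∈ J • (⊤ : Submodule A Gk) := by
      have := congrArg (TensorProduct.quotTensorEquivQuotSMul Gk J) h0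
      rw [map_zero, ← map_one (Ideal.Quotient.mk J), TensorProduct.quotTensorEquivQuotSMul_mk_tmul, one_smul] at this
      exact (Submodule.Quotient.mk_eq_zero _).mp this
    rw [hJdef, Submodule.sup_smul] at h1
    have hR0 : R • (⊤ : Submodule A Gk) = ⊥ :=
      eq_bot_iff.mpr (Submodule.smul_le.mpr fun r hr y _ => (Submodule.mem_bot A).mpr (G_killed R k r hr y))
    rw [hR0, bot_sup_eq, Submodule.ideal_span_singleton_smul, Submodule.mem_smul_pointwise_iff_exists] at h1
    obtain ⟨x₁, -, rfl⟩ := h1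
    refine ⟨x₁, fun P hP' => ?_, rfl⟩
    have : P.IsPrime := hP'.isPrime
    have := hP P hP' k
    obtain ⟨s, hs, hsx⟩ := hx P hP'
    rw [smul_comm] at hsx
    obtain ⟨t, ht, h⟩ := exists_smul_eq_zero_of_flat (Localization.AtPrime P) P.primeCompl (A ⧸ R) ha hsx
    exact ⟨t * s, fun h' => (hP'.isPrime.mem_or_mem h').elim ht hs, by rw [mul_smul]; exact h⟩
  have hpow : ∀ (n : ℕ) (x : Gk), Killed x → x ∈ Ideal.span {a} ^ n • (⊤ : Submodule A Gk) := by
    intro n
    induction n with
    | zero => intro x _; simp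
    | succ n ihn =>
      intro x hx
      obtain ⟨x₁, hx₁, rfl⟩ := hdiv x hx
      rw [pow_succ', Submodule.mul_smul]
      exact Submodule.smul_mem_smul (Ideal.mem_span_singleton_self a) (ihn x₁ hx₁)
  intro x hx hax
  refine ⟨1, one_mem _, ?_⟩
  rw [one_smul, ← G_mk_eq_zero (x := ⟨x, hx⟩)]
  have hkilled : Killed (Submodule.Quotient.mk ⟨x, hx⟩) := fun P hP' => by
    have : P.IsPrime := hP'.isPrime
    have := hP P hP' k
    obtain ⟨t, ht, h⟩ := exists_smul_eq_zero_of_flat (Localization.AtPrime P) P.primeCompl (A ⧸ R) ha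
      (x := (Submodule.Quotient.mk ⟨x, hx⟩ : Gk)) (by rw [← Submodule.Quotient.mk_smul, G_mk_eq_zero]; exact hax)
    exact ⟨t, ht, h⟩
  have hmem := (Submodule.mem_iInf _).mpr fun n => hpow n _ hkilled
  rw [Ideal.iInf_pow_smul_eq_bot_of_le_jacobson (M := Gk) _ ((Ideal.span_singleton_le_iff_mem _).mpr hjac)] at hmem
  exact (Submodule.mem_bot A).mp hmem

end Groth.Agent.NormFlat
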