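import Mathlib
import Groth.Agent.NormFlat.Transitivity

/-!
# Hironaka's theorem on normal flatness along a regular sequence
-/

universe u

open Function Pointwise RingTheory.Sequence
open scoped TensorProduct

namespace Groth.Agent.NormFlat

variable {A : Type u} [CommRing A] {M : Type u} [AddCommGroup M] [Module A M]

lemma isWeaklyRegular_snoc {R : Ideal A} {pre : List A} {a : A}
    (h : IsWeaklyRegular (A ⧸ R) (pre ++ [a])) :
    IsWeaklyRegular (A ⧸ R) pre ∧ IsSMulRegular (A ⧸ (R ⊔ Ideal.ofList pre)) a := by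
  rw [isWeaklyRegular_append_iff, isWeaklyRegular_singleton_iff] at h
  refine ⟨h.1, ?_⟩
  have h' : Ideal.ofList pre • (⊤ : Submodule A (A ⧸ R)) =
      Submodule.map (Submodule.mkQ R) (R ⊔ Ideal.ofList pre) := by
    rw [Submodule.map_sup, Submodule.mkQ_map_self, bot_sup_eq, ← Submodule.range_mkQ, ← Submodule.map_top,
      ← Submodule.map_smul'', smul_eq_mul, Ideal.mul_top]
  exact ((Submodule.quotEquivOfEq _ _ h') ≪≫ₗ
    Submodule.quotientQuotientEquivQuotient R (R ⊔ Ideal.ofList pre) le_sup_left).isSMulRegular_congr a |>.mp h.2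

/-- Normal flatness passes from `R` to `R + (as)`. -/
theorem nf_sup_ofList (S : Submonoid A) (L : Type u) [CommRing L] [Algebra A L] [IsLocalization S L]
    (R : Ideal A) (hR : NF R L M) (as : List A) :
    IsWeaklyRegular (A ⧸ R) as → NF (R ⊔ Ideal.ofList as) L M := by
  induction as using List.reverseRecOn with
  | nil => intro _; rwa [Ideal.ofList_nil, sup_bot_eq]
  | append_singleton pre a ih =>
    intro h
    obtain ⟨h₁, h₂⟩ := isWeaklyRegular_snoc h
    rw [Ideal.ofList_append, Ideal.ofList_singleton, ← sup_assoc]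
    exact nf_sup_singleton (S := S) _ a L (ih h₁) h₂

lemma exists_le_associatedPrime [IsNoetherianRing A] {J : Ideal A} {a : A}
    (hjac : a ∈ (⊥ : Ideal A).jacobson) (ha : IsSMulRegular (A ⧸ J) a) {Q : Ideal A}
    (hQ : Q ∈ associatedPrimes A (A ⧸ J)) :
    ∃ P ∈ associatedPrimes A (A ⧸ (J ⊔ Ideal.span {a})), Q ≤ P := by
  obtain ⟨hQp, x, hx⟩ := isAssociatedPrime_iff.mp hQ
  let N : Submodule A (A ⧸ J) := ⨅ q : Q, LinearMap.ker ((q : A) • (LinearMap.id : (A ⧸ J) →ₗ[A] A ⧸ J))
  have hN : ∀ z, z ∈ N ↔ ∀ q ∈ Q, q • z = 0 := fun z => by simp [N, Submodule.mem_iInf]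
  have hxN : x ∈ N := (hN x).mpr fun q hq => by
    rw [hx, Submodule.mem_colon_singleton, Submodule.mem_bot] at hq
    exact hq
  obtain ⟨z, hzN, hz⟩ : ∃ z ∈ N, z ∉ Ideal.span {a} • (⊤ : Submodule A (A ⧸ J)) := by
    by_contra hcon
    push Not at hcon
    have hle : N ≤ Ideal.span {a} • N := fun z hz => by
      have := hcon z hz
      rw [Submodule.ideal_span_singleton_smul, Submodule.mem_smul_pointwise_iff_exists] at this ⊢
      obtain ⟨y, -, rfl⟩ := this
      refine ⟨y, (hN y).mpr fun q hq => ha.right_eq_zero_of_smul ?_, rfl⟩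
      rw [smul_comm]
      exact (hN _).mp hz q hq
    have hb := Submodule.eq_bot_of_le_smul_of_le_jacobson_bot _ N (IsNoetherian.noetherian N) hle
      ((Ideal.span_singleton_le_iff_mem _).mpr hjac)
    rw [hb, Submodule.mem_bot] at hxN
    subst hxN
    exact hQp.ne_top (hx.trans ((Submodule.colon_eq_top_iff_subset _).mpr (by simp)))
  let π : (A ⧸ J) →ₗ[A] A ⧸ (J ⊔ Ideal.span {a}) := Submodule.factor le_sup_left
  have hπ : π z ≠ 0 := by
    intro h0
    apply hz
    obtain ⟨r, rfl⟩ := Submodule.mkQ_surjective _ z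
    obtain ⟨j, hj, s, hs, rfl⟩ := Submodule.mem_sup.mp ((Submodule.Quotient.mk_eq_zero _).mp h0)
    obtain ⟨t, rfl⟩ := Ideal.mem_span_singleton'.mp hs
    rw [map_add, show Submodule.mkQ J j = 0 from (Submodule.Quotient.mk_eq_zero _).mpr hj, zero_add,
      mul_comm t a, ← smul_eq_mul, map_smul]
    exact Submodule.smul_mem_smul (Ideal.mem_span_singleton_self a) trivial
  obtain ⟨P, hP, hle⟩ := exists_le_isAssociatedPrime_of_isNoetherianRing A (π z) hπ
  refine ⟨P, hP, fun q hq => hle ?_⟩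
  rw [Submodule.mem_colon_singleton, Submodule.mem_bot, ← map_smul, (hN z).mp hzN q hq, map_zero]

lemma nf_localization_of_le {R P Q : Ideal A} [P.IsPrime] [Q.IsPrime] (hQP : Q ≤ P)
    (h : NF R (Localization.AtPrime P) M) : NF R (Localization.AtPrime Q) M := by
  intro k
  let LP := Localization.AtPrime P
  let LQ := Localization.AtPrime Q
  have := h k
  have : Module.Flat A LQ := IsLocalization.flat LQ Q.primeCompl
  have : IsLocalizedModule P.primeCompl (LinearMap.id : LQ →ₗ[A] LQ) := by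
    refine ⟨fun s => ?_, fun y => ⟨(y, 1), one_smul _ y⟩, fun h => ⟨1, congrArg _ h⟩⟩
    have hs : IsUnit (algebraMap A LQ s) := IsLocalization.map_units LQ (⟨s.1, fun h => s.2 (hQP h)⟩ : Q.primeCompl)
    rw [Module.End.isUnit_iff]
    obtain ⟨v, hv⟩ := hs
    refine ⟨fun x y hxy => ?_, fun x => ⟨↑v⁻¹ * x, ?_⟩⟩
    · simpa [Algebra.smul_def, ← hv] using hxy
    · simp [Algebra.smul_def, ← hv]
  let e : LQ ≃ₗ[A] LP ⊗[A] LQ := IsLocalizedModule.linearEquiv P.primeCompl LinearMap.id (TensorProduct.mk A LP LQ 1)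
  exact Module.Flat.of_linearEquiv
    ((TensorProduct.AlgebraTensorModule.congr (LinearEquiv.refl (A ⧸ R) (G R M k)) e) ≪≫ₗ
      (TensorProduct.AlgebraTensorModule.assoc A A (A ⧸ R) (G R M k) LP LQ).symm)

/-- **Hironaka**: normal flatness along `R + (as)` and along `R` at the associated primes of the
quotient imply normal flatness along `R`. -/
theorem nf_of_nf_sup_ofList [IsNoetherianRing A] [Module.Finite A M] (R : Ideal A) (as : List A) :
    (∀ a ∈ as, a ∈ (⊥ : Ideal A).jacobson) → IsWeaklyRegular (A ⧸ R) as →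
    NF (R ⊔ Ideal.ofList as) A M →
    (∀ (P : Ideal A) [P.IsPrime], P ∈ associatedPrimes A (A ⧸ (R ⊔ Ideal.ofList as)) →
      NF R (Localization.AtPrime P) M) → NF R A M := by
  induction as using List.reverseRecOn with
  | nil => intro _ _ h _; rwa [Ideal.ofList_nil, sup_bot_eq] at h
  | append_singleton pre a ih =>
    intro hjac h hJ hP
    obtain ⟨h₁, h₂⟩ := isWeaklyRegular_snoc h
    rw [Ideal.ofList_append, Ideal.ofList_singleton, ← sup_assoc] at hJ hP
    have ha : a ∈ (⊥ : Ideal A).jacobson := hjac a (by simp)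
    have hJ' : NF (R ⊔ Ideal.ofList pre) A M := nf_of_nf_sup_singleton _ a ha h₂ hJ fun P _ hPa =>
      nf_sup_ofList P.primeCompl _ R (hP P hPa) pre h₁
    refine ih (fun b hb => hjac b (by simp [hb])) h₁ hJ' fun Q _ hQ => ?_
    obtain ⟨P, hPa, hle⟩ := exists_le_associatedPrime ha h₂ hQ
    have : P.IsPrime := hPa.isPrime
    exact nf_localization_of_le hle (hP P hPa)

lemma map_mem_associatedPrimes [IsNoetherianRing A] {R J P : Ideal A} (hRJ : R ≤ J)
    (hP : P ∈ associatedPrimes A (A ⧸ J)) :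
    (P.map (Ideal.Quotient.mk R)).IsPrime ∧ R ≤ P ∧
      P.map (Ideal.Quotient.mk R) ∈ associatedPrimes (A ⧸ R) ((A ⧸ R) ⧸ J.map (Ideal.Quotient.mk R)) := by
  obtain ⟨hPp, x, hx⟩ := isAssociatedPrime_iff.mp hP
  obtain ⟨r, rfl⟩ := Ideal.Quotient.mk_surjective x
  have hRP : R ≤ P := fun c hc => by
    rw [hx, Submodule.mem_colon_singleton, Submodule.mem_bot]
    exact Ideal.Quotient.eq_zero_iff_mem.mpr (J.mul_mem_right r (hRJ hc))
  have hp : (P.map (Ideal.Quotient.mk R)).IsPrime :=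
    Ideal.map_isPrime_of_surjective Ideal.Quotient.mk_surjective (by rwa [Ideal.mk_ker])
  refine ⟨hp, hRP, isAssociatedPrime_iff.mpr ⟨hp, Submodule.Quotient.mk (Ideal.Quotient.mk R r), ?_⟩⟩
  apply Ideal.comap_injective_of_surjective _ Ideal.Quotient.mk_surjective
  rw [Ideal.comap_map_quotientMk, sup_eq_right.mpr hRP]
  ext c
  rw [hx, Submodule.mem_colon_singleton, Submodule.mem_bot, Ideal.mem_comap, Submodule.mem_colon_singleton,
    Submodule.mem_bot, ← Submodule.Quotient.mk_smul, Submodule.Quotient.mk_eq_zero, smul_eq_mul, ← map_mul,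
    Ideal.mem_quotient_iff_mem hRJ]
  exact Ideal.Quotient.eq_zero_iff_mem

/-- Flatness of `G ⊗ A_P` from flatness of the localisation at `P / R`. -/
lemma flat_tensor_localization {R P : Ideal A} [P.IsPrime] (p : Ideal (A ⧸ R)) [p.IsPrime]
    (hp : p.comap (Ideal.Quotient.mk R) = P) (N : Type u) [AddCommGroup N] [Module A N] [Module (A ⧸ R) N]
    [IsScalarTower A (A ⧸ R) N]
    (h : Module.Flat (Localization.AtPrime p) (LocalizedModule p.primeCompl N)) :
    Module.Flat (A ⧸ R) (N ⊗[A] Localization.AtPrime P) := by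
  let LP := Localization.AtPrime P
  let ψ : N →ₗ[A ⧸ R] N ⊗[A] LP := (TensorProduct.AlgebraTensorModule.mk A (A ⧸ R) N LP).flip 1
  have hψ : ∀ n, ψ n = n ⊗ₜ[A] (1 : LP) := fun _ => rfl
  have hA : IsLocalizedModule P.primeCompl ((TensorProduct.comm A LP N).toLinearMap ∘ₗ TensorProduct.mk A LP N 1) :=
    IsLocalizedModule.of_linearEquiv P.primeCompl _ _
  have hmem : ∀ s : A, s ∉ P ↔ Ideal.Quotient.mk R s ∉ p := fun s => by rw [← hp]; rfl
  have : IsLocalizedModule p.primeCompl ψ := by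
    refine ⟨fun b => ?_, fun y => ?_, fun {n₁ n₂} heq => ?_⟩
    · obtain ⟨s, hs⟩ := Ideal.Quotient.mk_surjective b.1
      have hsP : s ∉ P := (hmem s).mpr (hs ▸ b.2)
      have := IsLocalizedModule.map_units ((TensorProduct.comm A LP N).toLinearMap ∘ₗ TensorProduct.mk A LP N 1)
        (⟨s, hsP⟩ : P.primeCompl)
      rw [Module.End.isUnit_iff] at this ⊢
      convert this using 1
      ext y
      rw [Module.algebraMap_end_apply, Module.algebraMap_end_apply, ← hs, ← Ideal.Quotient.algebraMap_eq,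
        algebraMap_smul]
    · obtain ⟨⟨n, s⟩, h⟩ := IsLocalizedModule.surj P.primeCompl
        ((TensorProduct.comm A LP N).toLinearMap ∘ₗ TensorProduct.mk A LP N 1) y
      refine ⟨(n, ⟨Ideal.Quotient.mk R s, (hmem s).mp s.2⟩), ?_⟩
      change (algebraMap A (A ⧸ R) s.1) • y = _
      rw [algebraMap_smul]
      exact h
    · obtain ⟨s, hs⟩ := IsLocalizedModule.exists_of_eq (S := P.primeCompl)
        (f := (TensorProduct.comm A LP N).toLinearMap ∘ₗ TensorProduct.mk A LP N 1) (x₁ := n₁) (x₂ := n₂) heq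
      refine ⟨⟨Ideal.Quotient.mk R s, (hmem s).mp s.2⟩, ?_⟩
      change (algebraMap A (A ⧸ R) s.1) • n₁ = (algebraMap A (A ⧸ R) s.1) • n₂
      rw [algebraMap_smul, algebraMap_smul]
      exact hs
  have : Module.Flat (A ⧸ R) (LocalizedModule p.primeCompl N) :=
    Module.Flat.trans (A ⧸ R) (Localization.AtPrime p) _
  exact Module.Flat.of_linearEquiv (IsLocalizedModule.iso p.primeCompl ψ).symm

theorem nf_iff_sup_range [IsNoetherianRing A] [Module.Finite A M] (R : Ideal A) {n : ℕ} (f : Fin n → A)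
    (hrad : ∀ i, f i ∈ (⊥ : Ideal A).jacobson) (hreg : IsWeaklyRegular (A ⧸ R) (List.ofFn f)) :
    (∀ k, Module.Flat (A ⧸ R) (G R M k)) ↔
      (∀ k, Module.Flat (A ⧸ (R ⊔ Ideal.span (Set.range f))) (G (R ⊔ Ideal.span (Set.range f)) M k)) ∧
        ∀ (p : Ideal (A ⧸ R)) [p.IsPrime],
          p ∈ associatedPrimes (A ⧸ R) ((A ⧸ R) ⧸ Ideal.map (Ideal.Quotient.mk R) (R ⊔ Ideal.span (Set.range f))) →
            ∀ k : ℕ, Module.Flat (Localization.AtPrime p) (LocalizedModule p.primeCompl (G R M k)) := by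
  have hspan : Ideal.span (Set.range f) = Ideal.ofList (List.ofFn f) := by
    simp only [Ideal.ofList, List.mem_ofFn, Set.range]
  have := isLocalization_bot (A := A)
  rw [hspan]
  constructor
  · intro h
    refine ⟨(nf_self_iff _).mp (nf_sup_ofList (⊥ : Submonoid A) A R ((nf_self_iff R).mpr h) _ hreg), fun p _ _ k => ?_⟩
    have := h k
    infer_instance
  · rintro ⟨hJ, hp⟩
    rw [← nf_self_iff] at hJ ⊢
    refine nf_of_nf_sup_ofList R (List.ofFn f) ?_ hreg hJ fun P _ hP k => ?_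
    · intro a ha
      obtain ⟨i, rfl⟩ := List.mem_ofFn.mp ha
      exact hrad i
    obtain ⟨hpp, hRP, hpass⟩ := map_mem_associatedPrimes le_sup_left hP
    exact flat_tensor_localization (P.map (Ideal.Quotient.mk R))
      (by rw [Ideal.comap_map_quotientMk, sup_eq_right.mpr hRP]) (G R M k) (hp _ hpass k)

end Groth.Agent.NormFlat
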